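import Cfsg.Agent.Lib.Chev.Bruhat
import Cfsg.Agent.Lib.Twisted.Weyl
import Cfsg.Agent.Lib.Weyl.Rep

/-!
The map from the monomial subgroup of a Chevalley group onto its Weyl group.
-/

set_option autoImplicit false
set_option linter.unusedSectionVars false

namespace CfsgLib.ChevWeyl

open Cfsg.Lie CfsgLib.Chev

variable {D : ChevalleyDatum} {T : Tabs}

/-- The Cartan matrix `C` is that of the datum and `B` inverts it up to the factor `d`. -/
def cartanTest (D : ChevalleyDatum) (C B : List (List ℤ)) (d : ℤ) (s t : List ℤ) (c : ℤ) : Bool :=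
  decide (d ≠ 0) &&
  decide (c ≠ 0 ∧ ∀ j : Fin D.rank, t.getD j.1 0 * s.getD j.1 0 = c) &&
  decide (∀ j l : Fin D.rank, s.getD j.1 0 * cm D j l = s.getD l.1 0 * CfsgLib.Weyl.cmat C l.1 j.1) &&
  decide (∀ i l : Fin D.rank, ((List.finRange D.rank).map fun k : Fin D.rank =>
      CfsgLib.Weyl.cmat B i.1 k.1 * CfsgLib.Weyl.cmat C k.1 l.1).sum = if i = l then d else 0) &&
  decide (∀ i l : Fin D.rank, ((List.finRange D.rank).map fun k : Fin D.rank =>
      CfsgLib.Weyl.cmat C i.1 k.1 * CfsgLib.Weyl.cmat B k.1 l.1).sum = if i = l then d else 0)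

/-- Root coordinates to weight coordinates. -/
def toWeight (D : ChevalleyDatum) (C : List (List ℤ)) (s : List ℤ) (v : Fin D.rank → ℤ) : Fin D.rank → ℤ :=
  fun k => ∑ i, s.getD i.1 0 * v i * CfsgLib.Weyl.cmat C i.1 k.1

theorem sum_finRange {n : ℕ} (f : Fin n → ℤ) : ((List.finRange n).map f).sum = ∑ k, f k := by
  rw [← List.sum_toFinset _ (List.nodup_finRange n), List.toFinset_finRange]

theorem exists_weyl_hom (hc : Checked D T) {F : Type*} [Field F] {C B : List (List ℤ)} {d c : ℤ} {s t : List ℤ}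
    (ht : cartanTest D C B d s t c = true) {M : CoxeterMatrix (Fin D.rank)} (hr : CfsgLib.Weyl.repTest C M = true)
    (hinj : Function.Injective (CfsgLib.Weyl.rep hr)) :
    ∃ φ : ↥(D.monomialSubgroup F) →* M.Group, Function.Surjective φ ∧
      φ.ker = (D.diagonalSubgroup F).subgroupOf (D.monomialSubgroup F) ∧
      ∀ (i : Fin D.rank) (g : ↥(D.monomialSubgroup F)),
        ((g : GL D.Idx F) : Matrix D.Idx D.Idx F) = D.nMat F (D.simple i) 1 → φ g = M.simple i := by
  classical
  simp only [cartanTest, Bool.and_eq_true, decide_eq_true_eq] at ht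
  obtain ⟨⟨⟨⟨hd, hc0, hts⟩, hcm⟩, hBC⟩, hCB⟩ := ht
  have hbc : ∀ i l : Fin D.rank, ∑ k : Fin D.rank, CfsgLib.Weyl.cmat B i.1 k.1 * CfsgLib.Weyl.cmat C k.1 l.1 =
      if i = l then d else 0 := fun i l => by rw [← sum_finRange]; exact hBC i l
  have hcb : ∀ i l : Fin D.rank, ∑ k : Fin D.rank, CfsgLib.Weyl.cmat C i.1 k.1 * CfsgLib.Weyl.cmat B k.1 l.1 =
      if i = l then d else 0 := fun i l => by rw [← sum_finRange]; exact hCB i l
  have hAinj : Function.Injective (toWeight D C s) := by
    intro v w h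
    funext l
    have key : ∀ u : Fin D.rank → ℤ,
        ∑ k : Fin D.rank, toWeight D C s u k * CfsgLib.Weyl.cmat B k.1 l.1 = s.getD l.1 0 * u l * d := by
      intro u
      simp only [toWeight, Finset.sum_mul, mul_assoc]
      rw [Finset.sum_comm]
      simp only [← Finset.mul_sum, hcb, mul_ite, mul_zero, Finset.sum_ite_eq', Finset.mem_univ, if_true]
    have := key v
    rw [h, key w] at this
    exact mul_left_cancel₀ (fun h0 => hc0 (by rw [← hts l, h0, mul_zero])) (mul_right_cancel₀ hd this.symm)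
  have hA : ∀ (i : Fin D.rank) (v : Fin D.rank → ℤ),
      toWeight D C s (refl D i v) = CfsgLib.Weyl.refl C i (toWeight D C s v) := by
    intro i v
    funext k
    show ∑ j : Fin D.rank, s.getD j.1 0 * refl D i v j * CfsgLib.Weyl.cmat C j.1 k.1 =
      toWeight D C s v k - toWeight D C s v i * CfsgLib.Weyl.cmat C i.1 k.1
    have hs : s.getD i.1 0 * ∑ j, cm D i j * v j = toWeight D C s v i := by
      rw [Finset.mul_sum]
      exact Finset.sum_congr rfl fun j _ => by rw [← mul_assoc, hcm, mul_right_comm]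
    simp only [CfsgLib.Chev.refl, Pi.sub_apply, mul_sub, sub_mul, Finset.sum_sub_distrib]
    rw [← hs]
    congr 1
    rw [Finset.sum_eq_single i]
    · rw [Pi.single_eq_same]
    · intro j _ hj; rw [Pi.single_eq_of_ne hj, mul_zero, zero_mul]
    · exact fun h => absurd (Finset.mem_univ i) h
  let W : List (Fin D.rank) → M.Group := fun L => (L.map M.simple).prod
  have hW : ∀ L M', W (L ++ M') = W L * W M' := fun L M' => by simp [W]
  have hrep : ∀ (L : List (Fin D.rank)) (r : ℕ), r < D.nroots →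
      (CfsgLib.Weyl.rep hr (W L)).1 (toWeight D C s (rv D T r)) = toWeight D C s (rv D T (sigs D T L r)) := by
    intro L
    induction L with
    | nil => intro r _; simp [W, sigs]
    | cons i L ih =>
      intro r hrr
      rw [show W (i :: L) = M.simple i * W L by simp [W], map_mul, Units.val_mul, Module.End.mul_apply, ih r hrr,
        CfsgLib.Weyl.rep_simple, ← hA, sigs_cons, rv_sig hc i (sigs_lt hc L hrr)]
  have hsep : ∀ L L' : List (Fin D.rank),
      (∀ r, r < D.nroots → sigs D T L r = sigs D T L' r) → W L = W L' := by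
    intro L L' h
    apply hinj
    refine Units.ext ((Pi.basisFun ℤ (Fin D.rank)).ext fun a => ?_)
    rw [Pi.basisFun_apply]
    have hrows : ∀ j : Fin D.rank, (CfsgLib.Weyl.rep hr (W L)).1 (toWeight D C s (Pi.single j 1)) =
        (CfsgLib.Weyl.rep hr (W L')).1 (toWeight D C s (Pi.single j 1)) := fun j => by
      rw [← rv_simple hc j, hrep L _ (simple_lt hc j.2), hrep L' _ (simple_lt hc j.2), h _ (simple_lt hc j.2)]
    have hsum : (c * d) • (Pi.single a (1 : ℤ) : Fin D.rank → ℤ) =
        ∑ j : Fin D.rank, (CfsgLib.Weyl.cmat B a.1 j.1 * t.getD j.1 0) • toWeight D C s (Pi.single j 1) := by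
      funext l
      rw [Finset.sum_apply]
      simp only [Pi.smul_apply, smul_eq_mul, toWeight, Pi.single_apply, mul_ite, ite_mul, mul_one, zero_mul,
        mul_zero, Finset.sum_ite_eq', Finset.mem_univ, if_true]
      have e : ∀ j : Fin D.rank, CfsgLib.Weyl.cmat B a.1 j.1 * t.getD j.1 0 * (s.getD j.1 0 * CfsgLib.Weyl.cmat C j.1 l.1) =
          c * (CfsgLib.Weyl.cmat B a.1 j.1 * CfsgLib.Weyl.cmat C j.1 l.1) := fun j => by
        rw [← hts j]; ring
      rw [Finset.sum_congr rfl fun j _ => e j, ← Finset.mul_sum, hbc a l]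
      simp [eq_comm]
    have h2 := congrArg (CfsgLib.Weyl.rep hr (W L)).1 hsum
    have h3 := congrArg (CfsgLib.Weyl.rep hr (W L')).1 hsum
    simp only [map_sum, map_smul] at h2 h3
    simp only [hrows] at h2
    rw [← h3] at h2
    exact smul_right_injective (Fin D.rank → ℤ) (mul_ne_zero hc0 hd) h2
  obtain ⟨ρ, hρ⟩ := CfsgLib.Twisted.exists_rootPerm hc (K := F)
  have hρL : ∀ (L : List (Fin D.rank)) (h : GL D.Idx F) (hh : h ∈ D.diagonalSubgroup F)
      (hm : h * nProd D F L ∈ D.monomialSubgroup F) (r : Fin D.nroots),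
      (ρ ⟨h * nProd D F L, hm⟩ r).1 = sigs D T L r := by
    intro L h hh hm r
    obtain ⟨c, -, hcx⟩ := nProd_conj_elX hc (F := F) L r.2
    obtain ⟨e, he⟩ := diagonal_conj_elX hc hh (sigs_lt hc L r.2)
    exact CfsgLib.Twisted.IsImg.unique hc (Fin.isLt _) (sigs_lt hc L r.2) (hρ _ r)
      ((show CfsgLib.Twisted.IsImg D (nProd D F L) r (sigs D T L r) from ⟨c, hcx⟩).mul hc ⟨e, he⟩)
  have hex : ∀ n : ↥(D.monomialSubgroup F), ∃ L, ∀ r : Fin D.nroots, (ρ n r).1 = sigs D T L r := by
    rintro ⟨n, hn⟩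
    obtain ⟨h, hh, L, rfl⟩ := monomial_cases hc hn
    exact ⟨L, hρL L h hh hn⟩
  choose Lf hLf using hex
  have huniq : ∀ n L, (∀ r : Fin D.nroots, (ρ n r).1 = sigs D T L r) → W (Lf n) = W L := fun n L h =>
    hsep _ _ fun r hr => by rw [← hLf n ⟨r, hr⟩, ← h ⟨r, hr⟩]
  let φ : ↥(D.monomialSubgroup F) →* M.Group :=
    { toFun := fun n => W (Lf n)
      map_one' := (huniq 1 [] fun r => by rw [map_one]; rfl).trans (by simp [W])
      map_mul' := fun n m => (huniq (n * m) (Lf n ++ Lf m) fun r => by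
        rw [map_mul, Equiv.Perm.mul_apply, hLf n, hLf m, sigs_append]).trans (hW _ _) }
  refine ⟨φ, fun w => ?_, ?_, fun i g hg => ?_⟩
  · obtain ⟨L, hL⟩ := M.toCoxeterSystem.wordProd_surjective w
    have hm : (1 : GL D.Idx F) * nProd D F L ∈ D.monomialSubgroup F := by
      rw [one_mul]; exact nProd_mem_monomial hc L
    refine ⟨⟨1 * nProd D F L, hm⟩, (huniq _ L (hρL L 1 (one_mem _) hm)).trans ?_⟩
    rw [← hL]
    simp [W, CoxeterSystem.wordProd, CoxeterMatrix.toCoxeterSystem_simple]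
  · ext n
    rw [MonoidHom.mem_ker, Subgroup.mem_subgroupOf]
    show W (Lf n) = 1 ↔ _
    constructor
    · intro h
      refine (CfsgLib.Twisted.rootPerm_ker hc hρ n).1 (Equiv.ext fun r => Fin.ext ?_)
      rw [hLf n r, Equiv.Perm.one_apply]
      have h1 := hrep (Lf n) r.1 r.2
      rw [h, map_one, Units.val_one, Module.End.one_apply] at h1
      exact (rv_inj hc r.2 (sigs_lt hc _ r.2) (hAinj h1)).symm
    · intro h
      refine (huniq n [] fun r => ?_).trans (by simp [W])
      rw [(CfsgLib.Twisted.rootPerm_ker hc hρ n).2 h]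
      rfl
  · show W (Lf g) = _
    have hg' : g = ⟨1 * nProd D F [i], by rw [one_mul]; exact nProd_mem_monomial hc _⟩ := by
      apply Subtype.ext
      apply Units.ext
      show _ = ((1 * nProd D F [i] : GL D.Idx F) : Matrix D.Idx D.Idx F)
      rw [one_mul, nProd_cons, nProd_nil, mul_one, coe_elN hc (simple_lt hc i.2)]
      exact hg
    rw [huniq g [i] (fun r => by rw [hg']; exact hρL [i] 1 (one_mem _) _ r)]
    simp [W]

end CfsgLib.ChevWeyl
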